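import Mathlib.GroupTheory.Sylow
import Mathlib.GroupTheory.Nilpotent
import Mathlib.GroupTheory.GroupAction.Quotient
import Mathlib.Data.Finite.Perm
import Mathlib.Data.Nat.Prime.Factorial
import Mathlib.GroupTheory.SpecificGroups.Cyclic

/-!
Groups in which every noncentral class has prime size.
-/

set_option autoImplicit false
set_option linter.style.haveILetI false

namespace CfsgLib.PrimeClassSizes

open Subgroup MulAction

variable {G : Type*} [Group G]

/-- If all element centralizers are normal with prime index, the class is at most two. -/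
theorem upperCentralSeries_two_eq_top
    (h : ∀ x : G, (centralizer ({x} : Set G)).index = 1 ∨ ((centralizer ({x} : Set G)).index).Prime)
    (hn : ∀ x : G, (centralizer ({x} : Set G)).Normal) : Subgroup.upperCentralSeries G 2 = ⊤ := by
  rw [eq_top_iff]
  intro a _
  rw [show (2 : ℕ) = 1 + 1 from rfl, Subgroup.mem_upperCentralSeries_succ_iff]
  intro b
  rw [Subgroup.upperCentralSeries_one, mem_center_iff]
  intro x
  have hx : a * b * a⁻¹ * b⁻¹ ∈ centralizer ({x} : Set G) := by
    rcases h x with h1 | hp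
    · rw [index_eq_one.1 h1]; exact mem_top _
    haveI := hn x
    haveI : Fact (centralizer ({x} : Set G)).index.Prime := ⟨hp⟩
    have : IsCyclic (G ⧸ centralizer ({x} : Set G)) :=
      isCyclic_of_prime_card (p := (centralizer ({x} : Set G)).index) rfl
    rw [← QuotientGroup.eq_one_iff]
    simp only [QuotientGroup.mk_mul, QuotientGroup.mk_inv]
    rw [(IsCyclic.commGroup (α := G ⧸ centralizer ({x} : Set G))).mul_comm (a : G ⧸ centralizer ({x} : Set G))]
    group
  exact (mem_centralizer_singleton_iff.1 hx).symm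

variable [Finite G]

/-- A non-normal centralizer of prime index forces a central quotient of order `pq`. -/
theorem center_quotient_of_not_normal
    (h : ∀ x : G, (centralizer ({x} : Set G)).index = 1 ∨ ((centralizer ({x} : Set G)).index).Prime)
    (x : G) (hn : ¬ (centralizer ({x} : Set G)).Normal) :
    ∃ p q : ℕ, p.Prime ∧ q.Prime ∧ p ≠ q ∧ Nat.card (G ⧸ center G) = p * q ∧
      ¬ IsMulCommutative (G ⧸ center G) := by
  classical
  set H := centralizer ({x} : Set G) with hH
  set p := H.index with hp'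
  have hp : p.Prime := (h x).resolve_left fun h1 => hn (by
    rw [← hH] at h1; rw [index_eq_one.1 h1]; infer_instance)
  haveI : Fact p.Prime := ⟨hp⟩
  set K := H.normalCore with hK
  have hKH : K ≤ H := normalCore_le H
  have hne : K ≠ H := fun e => hn (e ▸ inferInstance)
  -- the faithful action on the cosets
  have hker : (toPermHom G (G ⧸ H)).ker = K := (normalCore_eq_ker H).symm
  have hpdvd : p ∣ K.index := index_dvd_of_le hKH
  have hfact : K.index ∣ p.factorial := by
    have h1 := card_dvd_of_injective _ (QuotientGroup.kerLift_injective (toPermHom G (G ⧸ H)))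
    rw [Nat.card_perm, ← index_eq_card, ← index_eq_card, hker] at h1
    exact h1
  rw [index_eq_card] at hpdvd
  obtain ⟨yb, hyb⟩ := exists_prime_orderOf_dvd_card' p hpdvd
  obtain ⟨y, rfl⟩ := QuotientGroup.mk_surjective yb
  have hyK : y ∉ K := fun hy => by
    rw [(QuotientGroup.eq_one_iff y).2 hy, orderOf_one] at hyb
    exact hp.ne_one hyb.symm
  have hyp : y ^ p ∈ K := by
    rw [← QuotientGroup.eq_one_iff, QuotientGroup.mk_pow, ← hyb, pow_orderOf_eq_one]
  obtain ⟨o, ho⟩ : ∃ o : G ⧸ H, y • o ≠ o := by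
    by_contra hall
    push Not at hall
    apply hyK
    rw [← hker, MonoidHom.mem_ker]
    exact Equiv.ext hall
  have htrans : ∀ o' : G ⧸ H, ∃ i : ℕ, y ^ i • o = o' := by
    haveI := Fintype.ofFinite (G ⧸ H)
    have hper : Function.minimalPeriod (y • ·) o = p := by
      have hd : Function.minimalPeriod (y • ·) o ∣ p := by
        rw [← pow_smul_eq_iff_minimalPeriod_dvd]
        have hk : y ^ p ∈ (toPermHom G (G ⧸ H)).ker := hker ▸ hyp
        exact DFunLike.congr_fun (MonoidHom.mem_ker.1 hk) o
      rcases (Nat.dvd_prime hp).1 hd with h1 | h1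
      · exact absurd (Function.minimalPeriod_eq_one_iff_isFixedPt.1 h1) ho
      · exact h1
    intro o'
    have hcard : Fintype.card (orbit (zpowers y) o) = Fintype.card (G ⧸ H) := by
      refine (MulAction.minimalPeriod_eq_card (a := y) (b := o)).symm.trans ?_
      rw [hper, hp', index_eq_card, Nat.card_eq_fintype_card]
    have huniv : (orbit (zpowers y) o).toFinset = Finset.univ :=
      Finset.eq_univ_of_card _ (by rw [Set.toFinset_card]; exact hcard)
    have hmem : o' ∈ orbit (zpowers y) o := by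
      rw [← Set.mem_toFinset, huniv]; exact Finset.mem_univ _
    obtain ⟨⟨_, hw⟩, hwe⟩ := hmem
    obtain ⟨i, rfl⟩ := mem_powers_iff_mem_zpowers.2 hw
    exact ⟨i, hwe⟩
  -- the centralizer of the image of y
  have hCy : centralizer ({(y : G ⧸ K)} : Set (G ⧸ K)) = zpowers (y : G ⧸ K) := by
    refine le_antisymm (fun c hc => ?_) (zpowers_le.2 (mem_centralizer_singleton_iff.2 rfl))
    obtain ⟨g, rfl⟩ := QuotientGroup.mk_surjective c
    obtain ⟨i, hi⟩ := htrans (g • o)
    refine ⟨i, ?_⟩
    change (y : G ⧸ K) ^ (i : ℤ) = g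
    rw [zpow_natCast, ← QuotientGroup.mk_pow, QuotientGroup.eq, ← hker, MonoidHom.mem_ker]
    refine Equiv.ext fun o' => ?_
    change ((y ^ i)⁻¹ * g) • o' = o'
    obtain ⟨j, rfl⟩ := htrans o'
    have hcom : ((g * y ^ j : G) : G ⧸ K) = ((y ^ j * g : G) : G ⧸ K) := by
      simp only [QuotientGroup.mk_mul, QuotientGroup.mk_pow]
      exact ((show Commute (g : G ⧸ K) (y : G ⧸ K) from mem_centralizer_singleton_iff.1 hc).pow_right j).eq
    have hk : (g * y ^ j)⁻¹ * (y ^ j * g) ∈ (toPermHom G (G ⧸ H)).ker := hker ▸ QuotientGroup.eq.1 hcom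
    have hfix : ((g * y ^ j)⁻¹ * (y ^ j * g)) • o = o := DFunLike.congr_fun (MonoidHom.mem_ker.1 hk) o
    rw [mul_smul, inv_smul_eq_iff, mul_smul, ← hi, smul_smul, ← pow_add, mul_smul] at hfix
    rw [mul_smul, inv_smul_eq_iff, ← hfix, smul_smul, ← pow_add, add_comm]
  have hCcard : Nat.card (centralizer ({(y : G ⧸ K)} : Set (G ⧸ K))) = p := by
    rw [hCy, Nat.card_zpowers, hyb]
  -- index comparison
  have hidx : ∀ g : G, (centralizer ({(g : G ⧸ K)} : Set (G ⧸ K))).index ∣
      (centralizer ({g} : Set G)).index := by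
    intro g
    rw [← index_comap_of_surjective _ (QuotientGroup.mk'_surjective K)]
    refine index_dvd_of_le fun c hc => mem_centralizer_singleton_iff.2 ?_
    simp only [QuotientGroup.mk'_apply, ← QuotientGroup.mk_mul, mem_centralizer_singleton_iff.1 hc]
  obtain ⟨q, hq, hQ⟩ : ∃ q : ℕ, q.Prime ∧ Nat.card (G ⧸ K) = p * q := by
    have hmul := (centralizer ({(y : G ⧸ K)} : Set (G ⧸ K))).card_mul_index
    rw [hCcard] at hmul
    refine ⟨(centralizer ({(y : G ⧸ K)} : Set (G ⧸ K))).index, ?_, hmul.symm⟩
    by_contra hnp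
    have h1 : (centralizer ({(y : G ⧸ K)} : Set (G ⧸ K))).index = 1 := by
      rcases h y with h1 | h1
      · exact Nat.dvd_one.1 (h1 ▸ hidx y)
      · exact ((Nat.dvd_prime h1).1 (hidx y)).resolve_right fun e => hnp (e ▸ h1)
    rw [h1, mul_one, ← index_eq_card] at hmul
    refine hne (le_antisymm hKH (relIndex_eq_one.1 ?_))
    have h2 := relIndex_mul_index hKH
    rw [← hmul] at h2
    exact Nat.eq_of_mul_eq_mul_right hp.pos (by rw [one_mul]; exact h2)
  have hpq : p ≠ q := by
    intro e
    subst e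
    rw [index_eq_card, hQ] at hfact
    have h1 : p ∣ (p - 1).factorial := by
      rw [← Nat.mul_factorial_pred hp.ne_zero] at hfact
      exact Nat.dvd_of_mul_dvd_mul_left hp.pos hfact
    have := (Nat.Prime.dvd_factorial hp).1 h1
    have := hp.pos
    omega
  have hna : ¬ ∀ a b : G ⧸ K, a * b = b * a := by
    intro hab
    have htop : centralizer ({(y : G ⧸ K)} : Set (G ⧸ K)) = ⊤ :=
      eq_top_iff.2 fun c _ => mem_centralizer_singleton_iff.2 (hab c y)
    rw [htop, card_top, hQ] at hCcard
    exact absurd (Nat.eq_of_mul_eq_mul_left hp.pos (hCcard.trans (mul_one p).symm)) hq.ne_one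
  haveI : Fact q.Prime := ⟨hq⟩
  have hZbot : center (G ⧸ K) = ⊥ := by
    by_contra hz
    apply hna
    have hd : Nat.card (center (G ⧸ K)) ∣ p * q := hQ ▸ card_subgroup_dvd_card _
    have hmul := (center (G ⧸ K)).card_mul_index
    rw [hQ] at hmul
    rw [index_eq_card] at hmul
    obtain ⟨r, hr, hr'⟩ : ∃ r : ℕ, (r = 1 ∨ r.Prime) ∧ Nat.card ((G ⧸ K) ⧸ center (G ⧸ K)) = r := by
      obtain ⟨a, b, ha, hb, hab⟩ := (Nat.dvd_mul.1 hd)
      rcases (Nat.dvd_prime hp).1 ha with rfl | rfl <;> rcases (Nat.dvd_prime hq).1 hb with rfl | rfl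
      · exact absurd (eq_bot_of_card_eq _ (by simpa using hab.symm)) hz
      · exact ⟨p, Or.inr hp, Nat.eq_of_mul_eq_mul_left hq.pos (by rw [one_mul] at hab; rw [← hab] at hmul; rw [hmul, mul_comm])⟩
      · exact ⟨q, Or.inr hq, Nat.eq_of_mul_eq_mul_left hp.pos (by rw [mul_one] at hab; rw [← hab] at hmul; exact hmul)⟩
      · exact ⟨1, Or.inl rfl, Nat.eq_of_mul_eq_mul_left (Nat.mul_pos hp.pos hq.pos)
          (by rw [← hab] at hmul; rw [hmul, mul_one])⟩
    have hcyc : IsCyclic ((G ⧸ K) ⧸ center (G ⧸ K)) := by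
      rcases hr with rfl | hr
      · haveI := (Nat.card_eq_one_iff_unique.1 hr').1
        exact isCyclic_of_subsingleton
      · haveI : Fact r.Prime := ⟨hr⟩
        exact isCyclic_of_prime_card hr'
    exact ((QuotientGroup.mk' (center (G ⧸ K))).isMulCommutative_of_isCyclic_of_ker_le_center
      (by rw [QuotientGroup.ker_mk'])).is_comm.comm
  have hKcomm : ∀ g : G, g ∉ K → ∀ k ∈ K, k * g = g * k := by
    intro g hg k hk
    set C := centralizer ({(g : G ⧸ K)} : Set (G ⧸ K)) with hC
    have hne1 : C.index ≠ 1 := by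
      intro e
      apply hg
      rw [← QuotientGroup.eq_one_iff, ← mem_bot, ← hZbot, mem_center_iff]
      intro c
      exact mem_centralizer_singleton_iff.1 (by
        have : C = ⊤ := index_eq_one.1 e
        rw [← hC, this]; exact mem_top c)
    have heq : C.index = (centralizer ({g} : Set G)).index := by
      rcases h g with h1 | h1
      · exact absurd (Nat.dvd_one.1 (h1 ▸ hidx g)) hne1
      · exact ((Nat.dvd_prime h1).1 (hidx g)).resolve_left hne1
    have hle : centralizer ({g} : Set G) ≤ C.comap (QuotientGroup.mk' K) := fun c hc =>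
      mem_centralizer_singleton_iff.2 (by
        simp only [QuotientGroup.mk'_apply, ← QuotientGroup.mk_mul, mem_centralizer_singleton_iff.1 hc])
    have hrel := relIndex_mul_index hle
    rw [index_comap_of_surjective _ (QuotientGroup.mk'_surjective K), ← heq] at hrel
    have hback : C.comap (QuotientGroup.mk' K) ≤ centralizer ({g} : Set G) := relIndex_eq_one.1
      (Nat.eq_of_mul_eq_mul_right (Nat.pos_of_ne_zero index_ne_zero_of_finite) (by rw [one_mul]; exact hrel))
    refine mem_centralizer_singleton_iff.1 (hback (mem_centralizer_singleton_iff.2 ?_))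
    simp only [QuotientGroup.mk'_apply, (QuotientGroup.eq_one_iff k).2 hk, one_mul, mul_one]
  have hKZ : K = center G := by
    refine le_antisymm (fun k hk => mem_center_iff.2 fun g => ?_) (fun z hz => ?_)
    · by_cases hg : g ∈ K
      · have h1 := hKcomm (g * y) (fun hm => hyK ((mul_mem_cancel_left hg).1 hm)) k hk
        rw [← mul_assoc, mul_assoc g y k, ← hKcomm y hyK k hk, ← mul_assoc] at h1
        exact (mul_right_cancel h1).symm
      · exact (hKcomm g hg k hk).symm
    · rw [← QuotientGroup.eq_one_iff, ← mem_bot, ← hZbot, mem_center_iff]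
      intro c
      obtain ⟨c, rfl⟩ := QuotientGroup.mk_surjective c
      rw [← QuotientGroup.mk_mul, ← QuotientGroup.mk_mul, mem_center_iff.1 hz c]
  refine ⟨p, q, hp, hq, hpq, ?_, fun hc => hna fun a b => ?_⟩
  · rw [← index_eq_card, ← hKZ, index_eq_card, hQ]
  · obtain ⟨a, rfl⟩ := QuotientGroup.mk_surjective a
    obtain ⟨b, rfl⟩ := QuotientGroup.mk_surjective b
    have h1 : ((a * b : G) : G ⧸ center G) = ((b * a : G) : G ⧸ center G) := by
      rw [QuotientGroup.mk_mul, QuotientGroup.mk_mul]; exact hc.is_comm.comm _ _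
    rw [QuotientGroup.eq, ← hKZ] at h1
    exact QuotientGroup.eq.2 h1

end CfsgLib.PrimeClassSizes
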